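/- Homomorphisms out of finite / finitely presented modules into directed colimits. -/
import Mathlib

set_option autoImplicit false
universe u
open CategoryTheory Limits Opposite

namespace Groth.Agent.ModColimHom

variable {A : Type u} [CommRing A] (M : ModuleCat.{u} A) {J : Type u} [Preorder J] [IsDirected J (· ≤ ·)]
  [Nonempty J] (N : J ⥤ ModuleCat.{u} A)

theorem post_ι (j : J) (φ : M ⟶ N.obj j) :
    colimit.post N (coyoneda.obj (op M)) (colimit.ι (N ⋙ coyoneda.obj (op M)) j φ) = φ ≫ colimit.ι N j :=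
  ConcreteCategory.congr_hom (colimit.ι_post N (coyoneda.obj (op M)) j) φ

theorem ι_map {i j : J} (h : i ≤ j) (φ : M ⟶ N.obj i) :
    colimit.ι (N ⋙ coyoneda.obj (op M)) j (φ ≫ N.map (homOfLE h)) = colimit.ι (N ⋙ coyoneda.obj (op M)) i φ :=
  ConcreteCategory.congr_hom (colimit.w (N ⋙ coyoneda.obj (op M)) (homOfLE h)) φ

theorem ι_map_elem {i j : J} (h : i ≤ j) (x : N.obj i) :
    colimit.ι N j (N.map (homOfLE h) x) = colimit.ι N i x :=
  ConcreteCategory.congr_hom (colimit.w N (homOfLE h)) x

theorem map_map {i j k : J} (h : i ≤ j) (h' : j ≤ k) (x : N.obj i) :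
    N.map (homOfLE h') (N.map (homOfLE h) x) = N.map (homOfLE (h.trans h')) x :=
  (ConcreteCategory.congr_hom (N.map_comp (homOfLE h) (homOfLE h')) x).symm

theorem exists_eq {i : J} (x y : N.obj i) (h : colimit.ι N i x = colimit.ι N i y) :
    ∃ (k : J) (hk : i ≤ k), N.map (homOfLE hk) x = N.map (homOfLE hk) y := by
  obtain ⟨k, f, g, he⟩ := (Concrete.colimit_rep_eq_iff_exists N x y).1 h
  exact ⟨k, leOfHom f, by rwa [Subsingleton.elim g f] at he⟩

theorem exists_eq_finset {ι : Type*} (s : Finset ι) {i : J} (x y : ι → N.obj i)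
    (h : ∀ a ∈ s, colimit.ι N i (x a) = colimit.ι N i (y a)) :
    ∃ (k : J) (hk : i ≤ k), ∀ a ∈ s, N.map (homOfLE hk) (x a) = N.map (homOfLE hk) (y a) := by
  classical
  induction s using Finset.induction_on with
  | empty => exact ⟨i, le_rfl, fun a ha => absurd ha (Finset.notMem_empty a)⟩
  | @insert a s _ ih =>
    obtain ⟨k, hk, hs⟩ := ih fun b hb => h b (Finset.mem_insert_of_mem hb)
    obtain ⟨l, hl, ha⟩ := exists_eq N (N.map (homOfLE hk) (x a)) (N.map (homOfLE hk) (y a))
      (by rw [ι_map_elem, ι_map_elem]; exact h a (Finset.mem_insert_self a s))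
    refine ⟨l, hk.trans hl, fun b hb => ?_⟩
    rcases Finset.mem_insert.1 hb with rfl | hb
    · rw [← map_map N hk hl, ← map_map N hk hl]; exact ha
    · rw [← map_map N hk hl, ← map_map N hk hl, hs b hb]

theorem injective_post [Module.Finite A M] :
    Function.Injective (colimit.post N (coyoneda.obj (op M))) := by
  intro x y hxy
  obtain ⟨i, φ, rfl⟩ := Types.jointly_surjective' x
  obtain ⟨j, ψ, rfl⟩ := Types.jointly_surjective' y
  obtain ⟨k, hik, hjk⟩ := exists_ge_ge i j
  rw [← ι_map M N hik φ, ← ι_map M N hjk ψ] at hxy ⊢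
  rw [post_ι, post_ι] at hxy
  obtain ⟨n, v, hv⟩ := Module.Finite.exists_fin (R := A) (M := M)
  obtain ⟨l, hkl, hl⟩ := exists_eq_finset N Finset.univ (fun a => (φ ≫ N.map (homOfLE hik)).hom (v a))
    (fun a => (ψ ≫ N.map (homOfLE hjk)).hom (v a)) fun a _ => ConcreteCategory.congr_hom hxy (v a)
  rw [← ι_map M N hkl, ← ι_map M N hkl (ψ ≫ _)]
  refine congrArg _ (ModuleCat.hom_ext (LinearMap.ext_on hv ?_))
  rintro _ ⟨a, rfl⟩
  exact hl a (Finset.mem_univ a)

theorem surjective_post [Module.FinitePresentation A M] :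
    Function.Surjective (colimit.post N (coyoneda.obj (op M))) := by
  classical
  intro g
  obtain ⟨n, v, hv⟩ := Module.Finite.exists_fin (R := A) (M := M)
  let p : (Fin n → A) →ₗ[A] M := Fintype.linearCombination A v
  have hp : Function.Surjective p := by
    rw [← LinearMap.range_eq_top, Fintype.range_linearCombination, hv]
  have hker : (LinearMap.ker p).FG := Module.FinitePresentation.fg_ker p hp
  choose idx y hy using fun a : Fin n => Concrete.colimit_exists_rep N (g.hom (p (Pi.single a 1)))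
  obtain ⟨j, hj⟩ := Finset.exists_le (Finset.univ.image idx)
  have hj' : ∀ a, idx a ≤ j := fun a => hj _ (Finset.mem_image_of_mem _ (Finset.mem_univ a))
  let h : (Fin n → A) →ₗ[A] N.obj j := (Pi.basisFun A (Fin n)).constr ℕ fun a => N.map (homOfLE (hj' a)) (y a)
  have hh : ∀ w, colimit.ι N j (h w) = g.hom (p w) := fun w => by
    refine LinearMap.congr_fun (f := (colimit.ι N j).hom.comp h) (g := g.hom.comp p)
      ((Pi.basisFun A (Fin n)).ext fun a => ?_) w
    simp only [LinearMap.comp_apply, h, Module.Basis.constr_basis]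
    rw [Pi.basisFun_apply]
    exact (ι_map_elem N (hj' a) (y a)).trans (hy a)
  obtain ⟨s, hs⟩ := hker
  obtain ⟨k, hjk, hk⟩ := exists_eq_finset N s (fun r => h r) (fun _ => 0) fun r hr => by
    rw [map_zero, hh, show p r = 0 from LinearMap.mem_ker.1 (hs ▸ Submodule.subset_span hr), map_zero]
  have hle : LinearMap.ker p ≤ LinearMap.ker ((N.map (homOfLE hjk)).hom.comp h) := by
    rw [← hs, Submodule.span_le]
    intro r hr
    exact LinearMap.mem_ker.2 ((hk r hr).trans (map_zero _))
  let φ : M →ₗ[A] N.obj k := ((LinearMap.ker p).liftQ _ hle).comp (p.quotKerEquivOfSurjective hp).symm.toLinearMap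
  have hφ : ∀ w, φ (p w) = N.map (homOfLE hjk) (h w) := fun w => by
    simp only [φ, LinearMap.comp_apply, LinearEquiv.coe_coe]
    rw [show (p.quotKerEquivOfSurjective hp).symm (p w) = Submodule.Quotient.mk w from
      (LinearEquiv.symm_apply_eq _).2 rfl]
    rfl
  refine ⟨colimit.ι (N ⋙ coyoneda.obj (op M)) k (ModuleCat.ofHom φ), (post_ι M N k _).trans ?_⟩
  refine ModuleCat.hom_ext (LinearMap.ext fun m => ?_)
  obtain ⟨w, rfl⟩ := hp m
  exact (congrArg (colimit.ι N k).hom (hφ w)).trans ((ι_map_elem N hjk (h w)).trans (hh w))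

end Groth.Agent.ModColimHom
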